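import Mathlib.AlgebraicGeometry.Morphisms.SmoothFiber
import Mathlib.RingTheory.Smooth.Fiber
import Groth.Agent.Unram.Pointwise
import Groth.Agent.Unram.SmoothFlat
import Groth.Agent.S2757

/-!
# Pointwise fibre criterion of smoothness; smooth locus and base change
-/

set_option autoImplicit false
set_option backward.isDefEq.respectTransparency.types false

universe u

open CategoryTheory CategoryTheory.Limits AlgebraicGeometry
open scoped TensorProduct

namespace Groth.Agent.SmoothPt

section Ring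

open Algebra IsLocalRing

local notation "𝓀[" R "]" => IsLocalRing.ResidueField R

variable {R S : Type u} [CommRing R] [CommRing S] [Algebra R S]

set_option backward.isDefEq.respectTransparency false in
/-- Flat at `q` and formally smooth fibre gives smooth at `q`. -/
theorem isSmoothAt_of_flatAt_of_fiber [Algebra.FinitePresentation R S] (p : Ideal R) (q : Ideal S)
    [p.IsPrime] [q.IsPrime] [q.LiesOver p] [Module.Flat R (Localization.AtPrime q)]
    [FormallySmooth p.ResidueField (p.Fiber S)] :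
    Algebra.IsSmoothAt R q := by
  let Rp := Localization.AtPrime p
  let Sp := Localization (algebraMapSubmonoid S p.primeCompl)
  let Sq := Localization.AtPrime q
  let := Localization.AtPrime.algebraOfLiesOver p q
  have : Module.Flat Rp Sq :=
    (Module.flat_iff_of_isLocalization Rp p.primeCompl Sq).mpr ‹Module.Flat R Sq›
  let f : Sp →ₐ[S] Sq := IsLocalization.liftAlgHom (M := algebraMapSubmonoid S p.primeCompl)
        (f := Algebra.ofId _ _) (by
      rintro ⟨_, x, hx, rfl⟩
      simpa using! IsLocalization.map_units (M := q.primeCompl) Sq ⟨algebraMap _ _ x,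
        by simp_all [q.over_def p]⟩)
  algebraize [f.toRingHom]
  have : IsScalarTower R Sp Sq := .to₁₃₄ _ S _ _
  have : IsScalarTower Rp Sp Sq := .of_algebraMap_eq' <| by
    apply IsLocalization.ringHom_ext p.primeCompl
    simp only [RingHom.comp_assoc, ← IsScalarTower.algebraMap_eq]
  have : IsLocalization (algebraMapSubmonoid Sp q.primeCompl) Sq :=
    .isLocalization_of_submonoid_le _ _ (algebraMapSubmonoid S p.primeCompl) _
    (by rintro _ ⟨x, hx, rfl⟩; simp_all [q.over_def p])
  have : FinitePresentation Rp Sp := by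
    have : Algebra.IsPushout R Rp S Sp :=
      .symm <| Algebra.isPushout_of_isLocalization p.primeCompl _ _ _
    exact .equiv (Algebra.IsPushout.equiv R Rp S Sp)
  have : FormallySmooth 𝓀[Rp] (𝓀[Rp] ⊗[Rp] Sq) := by
    let : Algebra S (𝓀[Rp] ⊗[R] S) := Algebra.TensorProduct.rightAlgebra
    have : FormallySmooth 𝓀[Rp] ((𝓀[Rp] ⊗[R] S) ⊗[S] Sq) :=
      .comp _ (𝓀[Rp] ⊗[R] S) _
    let e : 𝓀[Rp] ⊗[R] S ≃ₐ[S] S ⊗[R] 𝓀[Rp] :=
      { __ := Algebra.TensorProduct.comm _ _ _, commutes' _ := rfl }
    let e' : (𝓀[Rp] ⊗[R] S) ⊗[S] Sq ≃ₐ[R] 𝓀[Rp] ⊗[Rp] Sq :=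
      ((Algebra.TensorProduct.comm _ _ _).restrictScalars R).trans <|
      ((Algebra.TensorProduct.congr (.refl (R := S)) e).restrictScalars R).trans <|
      ((Algebra.TensorProduct.cancelBaseChange _ _ S _ _).restrictScalars R).trans <|
      (Algebra.TensorProduct.comm _ _ _).trans (Algebra.TensorProduct.equivOfCompatibleSMul ..)
    have : e'.toAlgHom.comp (IsScalarTower.toAlgHom R p.ResidueField _) =
        IsScalarTower.toAlgHom _ _ _ := by ext
    let e'' : (𝓀[Rp] ⊗[R] S) ⊗[S] Sq ≃ₐ[𝓀[Rp]] 𝓀[Rp] ⊗[Rp] Sq :=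
      { __ := e', commutes' r := congr($this r) }
    exact .of_equiv e''
  have := FormallySmooth.of_formallySmooth_residueField_tensor
    (R := Rp) (S := Sq) (P := Sp) (algebraMapSubmonoid _ q.primeCompl)
  exact .comp R Rp Sq

end Ring

variable {X Y : Scheme.{u}} (f : X ⟶ Y) [LocallyOfFinitePresentation f]

/-- The smooth locus pulls back into the smooth locus of the base change. -/
theorem preimage_smoothLocus_le {X' Y' : Scheme.{u}} {f' : X' ⟶ Y'} [LocallyOfFinitePresentation f']
    {g : Y' ⟶ Y} {g' : X' ⟶ X} (h : IsPullback g' f' f g) :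
    g' ⁻¹ᵁ f.smoothLocus ≤ f'.smoothLocus := by
  intro x hx
  obtain ⟨U, hxU, hU⟩ := (Unram.smooth_nhd_iff f _).mpr hx
  have hsm : Smooth ((g' ⁻¹ᵁ U).ι ≫ f') :=
    MorphismProperty.of_isPullback (P := @Smooth)
      ((isPullback_morphismRestrict g' U).paste_vert h) hU
  exact (Unram.smooth_nhd_iff f' x).mp ⟨g' ⁻¹ᵁ U, hxU, hsm⟩

/-- Smooth at a point implies flat at that point. -/
theorem flat_of_mem_smoothLocus {x : X} (hx : x ∈ f.smoothLocus) : (f.stalkMap x).hom.Flat := by
  obtain ⟨U, hU, V, hV, hVU, hxV⟩ := Unram.exists_chart f x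
  have := f.finitePresentation_appLE hU hV hVU
  algebraize [(f.appLE U V hVU).hom]
  have : Algebra.IsSmoothAt Γ(Y, U) (hV.primeIdealOf ⟨x, hxV⟩).asIdeal :=
    (formallySmooth_stalkMap_iff U hU V hV hVU hxV).mp hx
  exact (Unram.flat_stalkMap_iff U hU V hV hVU hxV).mpr (Unram.flat_localization_of_isSmoothAt _)

/-- Flat at `x` and fibre smooth at `x` gives smooth at `x`. -/
theorem mem_smoothLocus_of_flat_of_fiber {x : X}
    [LocallyOfFinitePresentation (f.fiberToSpecResidueField (f x))]
    (hflat : (f.stalkMap x).hom.Flat)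
    (hfib : f.asFiber x ∈ (f.fiberToSpecResidueField (f x)).smoothLocus) :
    x ∈ f.smoothLocus := by
  obtain ⟨W, hWo, hW⟩ := (f.fiberι (f x)).isEmbedding.isInducing.isOpen_iff.mp
    (f.fiberToSpecResidueField (f x)).smoothLocus.2
  have hxW : x ∈ W := by
    have : f.asFiber x ∈ (f.fiberι (f x)) ⁻¹' W := hW ▸ hfib
    simpa using this
  obtain ⟨_, ⟨U, hU, rfl⟩, hxU, -⟩ :=
    Y.isBasis_affineOpens.exists_subset_of_mem_open (Set.mem_univ (f x)) isOpen_univ
  obtain ⟨_, ⟨V, hV, rfl⟩, hxV, hVW⟩ :=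
    X.isBasis_affineOpens.exists_subset_of_mem_open
      (show x ∈ W ∩ f ⁻¹' (U : Set Y) from ⟨hxW, hxU⟩) (hWo.inter (U.2.preimage f.continuous))
  have hVU : V ≤ f ⁻¹ᵁ U := fun y hy ↦ (hVW hy).2
  have := f.finitePresentation_appLE hU hV hVU
  algebraize [(f.appLE U V hVU).hom]
  let p := hU.primeIdealOf ⟨f x, hVU hxV⟩
  let q := hV.primeIdealOf ⟨x, hxV⟩
  have : q.asIdeal.LiesOver p.asIdeal :=
    ⟨congr($(IsAffineOpen.comap_primeIdealOf_appLE U hU V hV hVU hxV).1).symm⟩
  have hflat' : Module.Flat Γ(Y, U) (Localization.AtPrime q.asIdeal) :=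
    (Unram.flat_stalkMap_iff U hU V hV hVU hxV).mp hflat
  -- the fibre of the affine chart
  let g : Spec Γ(X, V) ⟶ Spec Γ(Y, U) := Spec.map (f.appLE U V hVU)
  have hsq : g ≫ hU.fromSpec = hV.fromSpec ≫ f :=
    IsAffineOpen.SpecMap_appLE_fromSpec f hU hV hVU
  have hp : hU.fromSpec p = f x := hU.fromSpec_primeIdealOf ⟨f x, hVU hxV⟩
  let ι' : Spec ((Spec Γ(Y, U)).residueField p) ⟶ Spec (Y.residueField (hU.fromSpec p)) :=
    Spec.map (hU.fromSpec.residueFieldMap p)
  have hι' : ι' ≫ Y.fromSpecResidueField (hU.fromSpec p) =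
      (Spec Γ(Y, U)).fromSpecResidueField p ≫ hU.fromSpec := by simp [ι']
  let F : g.fiber p ⟶ f.fiber (hU.fromSpec p) :=
    pullback.map g ((Spec Γ(Y, U)).fromSpecResidueField p) f (Y.fromSpecResidueField (hU.fromSpec p))
      hV.fromSpec ι' hU.fromSpec hsq hι'.symm
  have : IsOpenImmersion F := inferInstanceAs (IsOpenImmersion (pullback.map ..))
  have : LocallyOfFinitePresentation (f.fiberToSpecResidueField (hU.fromSpec p)) :=
    MorphismProperty.pullback_snd _ _ inferInstance
  have hF : F ⁻¹ᵁ (f.fiberToSpecResidueField (hU.fromSpec p)).smoothLocus = ⊤ := by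
    rw [eq_top_iff]
    intro z _
    have hFz : f.fiberι (hU.fromSpec p) (F z) = hV.fromSpec (g.fiberι p z) := by
      have e : F ≫ f.fiberι (hU.fromSpec p) = g.fiberι p ≫ hV.fromSpec := pullback.lift_fst _ _ _
      rw [← Scheme.Hom.comp_apply, ← Scheme.Hom.comp_apply, e]
    have hmem : f.fiberι (hU.fromSpec p) (F z) ∈ W := by
      rw [hFz]
      refine (hVW ?_).1
      rw [← hV.range_fromSpec]
      exact ⟨_, rfl⟩
    have key : ∀ (s : Y) (_ : f x = s) [LocallyOfFinitePresentation (f.fiberToSpecResidueField s)],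
        ∀ z : f.fiber s, f.fiberι s z ∈ W → z ∈ (f.fiberToSpecResidueField s).smoothLocus := by
      rintro s rfl _ z hz
      exact (Set.ext_iff.mp hW z).mp hz
    exact key _ hp.symm _ hmem
  have : Smooth (F ≫ f.fiberToSpecResidueField (hU.fromSpec p)) := by
    rw [← Scheme.Hom.smoothLocus_eq_top_iff, ← Scheme.Hom.preimage_smoothLocus_eq, hF]
  have : Smooth (g.fiberToSpecResidueField p ≫ ι') := by
    have e : F ≫ f.fiberToSpecResidueField (hU.fromSpec p) = g.fiberToSpecResidueField p ≫ ι' :=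
      pullback.lift_snd _ _ _
    rwa [← e]
  have hsm : Smooth (g.fiberToSpecResidueField p) :=
    (MorphismProperty.cancel_right_of_respectsIso @Smooth _ ι').mp this
  have : Algebra.FormallySmooth p.asIdeal.ResidueField (p.asIdeal.Fiber Γ(X, V)) := by
    rw [← RingHom.formallySmooth_algebraMap]
    refine RingHom.Smooth.formallySmooth ?_
    rw [← CommRingCat.hom_ofHom (algebraMap p.asIdeal.ResidueField (p.asIdeal.Fiber Γ(X, V))),
      ← HasRingHomProperty.Spec_iff (P := @Smooth), ← MorphismProperty.arrow_mk_iso_iff (P := @Smooth)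
      (Spec.fiberToSpecResidueFieldIso Γ(Y, U) Γ(X, V) p)]
    exact hsm
  exact (formallySmooth_stalkMap_iff U hU V hV hVU hxV).mpr
    (isSmoothAt_of_flatAt_of_fiber p.asIdeal q.asIdeal)

/-- Pointwise fibre criterion of smoothness. -/
theorem mem_smoothLocus_iff {x : X}
    [LocallyOfFinitePresentation (f.fiberToSpecResidueField (f x))] :
    x ∈ f.smoothLocus ↔
      (f.stalkMap x).hom.Flat ∧ f.asFiber x ∈ (f.fiberToSpecResidueField (f x)).smoothLocus := by
  refine ⟨fun h ↦ ⟨flat_of_mem_smoothLocus f h, ?_⟩,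
    fun h ↦ mem_smoothLocus_of_flat_of_fiber f h.1 h.2⟩
  refine preimage_smoothLocus_le f (IsPullback.of_hasPullback f (Y.fromSpecResidueField (f x))) ?_
  show f.fiberι (f x) (f.asFiber x) ∈ f.smoothLocus
  rwa [Scheme.Hom.fiberι_asFiber]

/-- Descent of smoothness at a point along a base change which is flat there. -/
theorem mem_smoothLocus_of_flat_baseChange {X' Y' : Scheme.{u}} {f' : X' ⟶ Y'}
    [LocallyOfFinitePresentation f'] {g : Y' ⟶ Y} {g' : X' ⟶ X} (h : IsPullback g' f' f g)
    {x' : X'} (hg : (g.stalkMap (f' x')).hom.Flat) (hx : x' ∈ f'.smoothLocus) :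
    g' x' ∈ f.smoothLocus := by
  have e1 : h.isoPullback.hom ≫ pullback.fst f g = g' := h.isoPullback_hom_fst
  have e2 : h.isoPullback.hom ≫ pullback.snd f g = f' := h.isoPullback_hom_snd
  have hz : h.isoPullback.hom x' ∈ (pullback.snd f g).smoothLocus := by
    have : x' ∈ h.isoPullback.hom ⁻¹ᵁ (pullback.snd f g).smoothLocus := by
      rw [Scheme.Hom.preimage_smoothLocus_eq]
      simp only [e2]
      exact hx
    exact this
  have hg2 : (g.stalkMap ((pullback.snd f g).base (h.isoPullback.hom x'))).hom.Flat := by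
    have : pullback.snd f g (h.isoPullback.hom x') = f' x' := by
      rw [← Scheme.Hom.comp_apply, e2]
    exact this ▸ hg
  have := (Unram.smooth_nhd_iff f _).mp
    (S2757.result f g (h.isoPullback.hom x') hg2 ((Unram.smooth_nhd_iff _ _).mpr hz))
  rwa [← Scheme.Hom.comp_apply, e1] at this

/-- For flat `f` or flat `g`, the smooth locus commutes with base change. -/
theorem smoothLocus_baseChange {X' Y' : Scheme.{u}} {f' : X' ⟶ Y'}
    [LocallyOfFinitePresentation f'] {g : Y' ⟶ Y} {g' : X' ⟶ X} (h : IsPullback g' f' f g)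
    (hflat : Flat f ∨ Flat g) : f'.smoothLocus = g' ⁻¹ᵁ f.smoothLocus := by
  refine le_antisymm (fun x' hx' ↦ ?_) (preimage_smoothLocus_le f h)
  show g' x' ∈ f.smoothLocus
  rcases hflat with hf | hg
  · have hlfp : LocallyOfFinitePresentation (f'.fiberToSpecResidueField (f' x')) :=
      MorphismProperty.pullback_snd _ _ inferInstance
    have : LocallyOfFinitePresentation (f.fiberToSpecResidueField (f (g' x'))) :=
      MorphismProperty.pullback_snd _ _ inferInstance
    refine mem_smoothLocus_of_flat_of_fiber f (Flat.stalkMap f _) ?_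
    have hfib := ((@mem_smoothLocus_iff _ _ f' _ x' hlfp).mp hx').2
    have : LocallyOfFinitePresentation (f.fiberToSpecResidueField (g (f' x'))) :=
      MorphismProperty.pullback_snd _ _ inferInstance
    have hpb := isPullback_fiberToSpecResidueField_of_isPullback h (f' x')
    have : Subsingleton (Spec (Y.residueField (g (f' x')))) :=
      inferInstanceAs (Subsingleton (PrimeSpectrum (Y.residueField (g (f' x')))))
    have hflat : Flat (Spec.map (g.residueFieldMap (f' x'))) := by
      rw [Flat.SpecMap_iff]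
      algebraize [(g.residueFieldMap (f' x')).hom]
      exact inferInstanceAs (Module.Flat _ _)
    have hmem := @mem_smoothLocus_of_flat_baseChange _ _ (f.fiberToSpecResidueField (g (f' x')))
      _ _ _ _ hlfp _ _ hpb _ (Flat.stalkMap _ _) hfib
    have key : ∀ (s : Y) (hs : f (g' x') = s) [LocallyOfFinitePresentation (f.fiberToSpecResidueField s)]
        (z : f.fiber s), f.fiberι s z = g' x' → z ∈ (f.fiberToSpecResidueField s).smoothLocus →
        f.asFiber (g' x') ∈ (f.fiberToSpecResidueField (f (g' x'))).smoothLocus := by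
      rintro s rfl _ z hz hmem
      have : f.asFiber (g' x') = z :=
        (f.fiberι _).isEmbedding.injective (by rw [Scheme.Hom.fiberι_asFiber, hz])
      rwa [this]
    refine key _ ?_ _ ?_ hmem
    · rw [← Scheme.Hom.comp_apply, h.w, Scheme.Hom.comp_apply]
    · have e : pullback.map f' (Y'.fromSpecResidueField (f' x')) f (Y.fromSpecResidueField (g (f' x')))
          g' (Spec.map (g.residueFieldMap (f' x'))) g h.w.symm (by simp) ≫ f.fiberι (g (f' x')) =
          f'.fiberι (f' x') ≫ g' := pullback.lift_fst _ _ _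
      rw [← Scheme.Hom.comp_apply]
      refine (congrArg (fun k : f'.fiber (f' x') ⟶ X ↦ k (f'.asFiber x')) e).trans ?_
      rw [Scheme.Hom.comp_apply]
      exact congrArg g' (f'.fiberι_asFiber x')
  · exact mem_smoothLocus_of_flat_baseChange f h (Flat.stalkMap g _) hx'

end Groth.Agent.SmoothPt
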